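import Mathlib

/-!
A `p`-group acting half-transitively on the non-zero elements of an abelian group of coprime order, with
non-trivial stabilizers: central elements of order `p` act without fixed points, and the eigenspaces of a
normal elementary abelian subgroup of order `p ^ 2`.
-/

set_option autoImplicit false

namespace Cfsg.Agent.HalfTrans

open MulAction

variable {G V : Type*} [Group G] [Finite G] [AddCommGroup V] [Finite V] [DistribMulAction G V]

/-- Stabilizers of non-zero elements are non-trivial and of one order; the action is faithful; `q ≠ p`. -/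
structure Hyp (p q : ℕ) (G V : Type*) [Group G] [AddCommGroup V] [DistribMulAction G V] : Prop where
  p_prime : p.Prime
  q_prime : q.Prime
  ne : p ≠ q
  pgroup : IsPGroup p G
  exp : ∀ v : V, q • v = 0
  faithful : ∀ g : G, (∀ v : V, g • v = v) → g = 1
  card_eq : ∀ v w : V, v ≠ 0 → w ≠ 0 → Nat.card (stabilizer G v) = Nat.card (stabilizer G w)
  nontriv : ∀ v : V, v ≠ 0 → stabilizer G v ≠ ⊥

variable {p q : ℕ}

namespace Hyp

omit [Finite G] [Finite V] in
theorem eq_zero_of_nsmul (H : Hyp p q G V) (k : ℕ) {x : V} (h : p ^ k • x = 0) : x = 0 :=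
  AddMonoid.addOrderOf_eq_one_iff.1 (Nat.eq_one_of_dvd_coprimes
    (((Nat.coprime_primes H.p_prime H.q_prime).2 H.ne).pow_left k)
    (addOrderOf_dvd_of_nsmul_eq_zero h) (addOrderOf_dvd_of_nsmul_eq_zero (H.exp x)))

omit [Finite V] in
/-- An element moving `v` by a fixed amount does not move it. -/
theorem eq_of_sub_fixed (H : Hyp p q G V) {h : G} {v : V} (hx : h • (h • v - v) = h • v - v) : h • v = v := by
  set x := h • v - v with hxdef
  have hpow : ∀ k : ℕ, h ^ k • v = v + k • x := fun k => by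
    induction k with
    | zero => simp
    | succ k ih =>
      rw [pow_succ', mul_smul, ih, smul_add, smul_comm h (k : ℕ) x, hx, add_nsmul, one_nsmul, hxdef]
      abel
  haveI : Fact p.Prime := ⟨H.p_prime⟩
  obtain ⟨n, hn⟩ := IsPGroup.iff_orderOf.1 H.pgroup h
  have h1 := hpow (orderOf h)
  rw [pow_orderOf_eq_one, one_smul, left_eq_add, hn] at h1
  exact sub_eq_zero.1 (H.eq_zero_of_nsmul n h1)

/-- If a stabilizer of `u + w` lies in those of `u` and of `w`, these are equal. -/
theorem stab_eq (H : Hyp p q G V) {u w : V} (hu : u ≠ 0) (hw : w ≠ 0) (huw : u + w ≠ 0)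
    (hle : ∀ h : G, h • (u + w) = u + w → h • u = u ∧ h • w = w) : stabilizer G u = stabilizer G w := by
  have h1 : stabilizer G (u + w) ≤ stabilizer G u := fun h hh => (hle h hh).1
  have h2 : stabilizer G (u + w) ≤ stabilizer G w := fun h hh => (hle h hh).2
  rw [← Subgroup.eq_of_le_of_card_ge h1 (H.card_eq u _ hu huw).le,
    Subgroup.eq_of_le_of_card_ge h2 (H.card_eq w _ hw huw).le]

/-- Central elements of order `p` act without fixed points. -/
theorem eq_zero_of_central (H : Hyp p q G V) {z : G} (hz : ∀ g : G, g * z = z * g) (hz1 : z ≠ 1) {u : V}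
    (hu : z • u = u) : u = 0 := by
  by_contra hu0
  refine hz1 (H.faithful z fun v => ?_)
  by_contra hv
  have hdiff : ∀ v₁ : V, z • (z • v₁ - v₁) = z • v₁ - v₁ → z • v₁ - v₁ = 0 := fun v₁ h =>
    sub_eq_zero.2 (H.eq_of_sub_fixed h)
  have hcomm : ∀ (g : G) (v₁ : V), z • g • v₁ = g • z • v₁ := fun g v₁ => by rw [← mul_smul, ← hz, mul_smul]
  have key : ∀ (u' v₁ : V), z • u' = u' → u' ≠ 0 → z • v₁ - v₁ ≠ 0 →
      stabilizer G u' = stabilizer G (z • v₁ - v₁) := by
    intro u' v₁ hu' hu'0 hw
    refine H.stab_eq hu'0 hw (fun h => hw (hdiff v₁ ?_)) fun h hh => ?_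
    · rw [show z • v₁ - v₁ = -u' from (neg_eq_of_add_eq_zero_right h).symm, smul_neg, hu']
    · have h1 : h • u' - u' = z • (v₁ - h • v₁) - (v₁ - h • v₁) := by
        rw [smul_add, smul_sub, ← hcomm] at hh
        rw [smul_sub]
        rw [← sub_eq_zero] at hh ⊢
        rw [← hh]
        abel
      have h2 : h • u' - u' = 0 := by
        rw [h1]
        refine hdiff _ ?_
        rw [← h1, smul_sub, hcomm, hu']
      have h3 := sub_eq_zero.1 h2
      exact ⟨h3, by rwa [smul_add, h3, add_right_inj] at hh⟩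
  have hw : z • v - v ≠ 0 := fun h => hv (sub_eq_zero.1 h)
  refine H.nontriv u hu0 ((Subgroup.eq_bot_iff_forall _).2 fun h hh => H.faithful h fun x => ?_)
  refine H.eq_of_sub_fixed ?_
  have hW' : ∀ v₁ : V, h • (z • v₁ - v₁) = z • v₁ - v₁ := fun v₁ => by
    by_cases h0 : z • v₁ - v₁ = 0
    · rw [h0, smul_zero]
    · exact mem_stabilizer_iff.1 (key u v₁ hu hu0 h0 ▸ hh)
  have hx : z • (h • x - x) = h • x - x := by
    rw [smul_sub, hcomm]
    have h1 := hW' x
    rw [smul_sub] at h1
    rw [← sub_eq_zero] at h1 ⊢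
    rw [← h1]
    abel
  by_cases hx0 : h • x - x = 0
  · rw [hx0, smul_zero]
  · exact mem_stabilizer_iff.1 ((key _ v hx hx0 hw).trans (key u v hu hu0 hw).symm ▸ hh)

/-- The stabilizers contain elements of order `p`, so no central such element fixes anything. -/
theorem exists_order (H : Hyp p q G V) [Nontrivial V] : ∃ g : G, g ≠ 1 ∧ ∃ v : V, v ≠ 0 ∧ g • v = v := by
  obtain ⟨v, hv⟩ := exists_ne (0 : V)
  obtain ⟨g, hg, hg1⟩ := (Subgroup.ne_bot_iff_exists_ne_one.1 (H.nontriv v hv)).elim fun g hg =>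
    (⟨(g : G), g.2, fun h => hg (Subtype.ext h)⟩ : ∃ g, g ∈ stabilizer G v ∧ g ≠ 1)
  exact ⟨g, hg1, v, hv, hg⟩

/-- Decomposition into the eigenspaces of `⟨z, e⟩`. -/
theorem eq_zero_of_eigen (H : Hyp p q G V) {z e : G} (hz : ∀ g : G, g * z = z * g) (hz1 : z ≠ 1)
    (hzp : z ^ p = 1) (hep : e ^ p = 1) (P : AddSubgroup V)
    (hP : ∀ j : ℕ, ∀ y : V, (e * z ^ j) • y = y → y ∈ P) (v : V) : v ∈ P := by
  have hfix : ∀ j : ℕ, ∀ x : V, (e * z ^ j) • (∑ i ∈ Finset.range p, (e * z ^ j) ^ i • x)
      = ∑ i ∈ Finset.range p, (e * z ^ j) ^ i • x := by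
    intro j x
    have hp1 : (e * z ^ j) ^ p = 1 := by
      rw [((show Commute e z from hz e).pow_right j).mul_pow, hep, ← pow_mul, mul_comm j, pow_mul, hzp,
        one_pow, one_mul]
    have h1 := Finset.sum_range_succ' (fun i => (e * z ^ j) ^ i • x) p
    rw [Finset.sum_range_succ, hp1, pow_zero] at h1
    rw [Finset.smul_sum]
    simp only [← mul_smul, ← pow_succ']
    exact (add_right_cancel h1).symm
  have hmem : p • v ∈ P := by
    have h1 : ∑ j ∈ Finset.range p, ∑ i ∈ Finset.range p, (e * z ^ j) ^ i • v ∈ P :=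
      sum_mem fun j _ => hP j _ (hfix j v)
    rw [Finset.sum_comm] at h1
    have h2 : ∀ i ∈ Finset.range p,
        ∑ j ∈ Finset.range p, (e * z ^ j) ^ i • v = if i = 0 then p • v else 0 := by
      intro i hi
      split_ifs with hi0
      · subst hi0; simp
      · have hexp : ∀ j : ℕ, (e * z ^ j) ^ i • v = e ^ i • (z ^ i) ^ j • v := fun j => by
          rw [((show Commute e z from hz e).pow_right j).mul_pow, ← pow_mul, mul_comm j, pow_mul, mul_smul]
        simp only [hexp, ← Finset.smul_sum]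
        have hzi : z ^ i ≠ 1 := by
          intro h
          haveI : Fact p.Prime := ⟨H.p_prime⟩
          have := Nat.le_of_dvd (Nat.pos_of_ne_zero hi0)
            ((orderOf_eq_prime hzp hz1) ▸ orderOf_dvd_of_pow_eq_one h)
          rw [Finset.mem_range] at hi
          omega
        have h3 : ∑ j ∈ Finset.range p, (z ^ i) ^ j • v = 0 := by
          refine H.eq_zero_of_central (z := z ^ i) (fun g => ((show Commute g z from hz g).pow_right i).eq) hzi ?_
          have h4 := Finset.sum_range_succ' (fun j => (z ^ i) ^ j • v) p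
          rw [Finset.sum_range_succ, ← pow_mul, mul_comm i, pow_mul, hzp, one_pow, pow_zero] at h4
          rw [Finset.smul_sum]
          simp only [← mul_smul, ← pow_succ']
          exact (add_right_cancel h4).symm
        rw [h3, smul_zero]
    rwa [Finset.sum_congr rfl h2, Finset.sum_ite_eq', if_pos (Finset.mem_range.2 H.p_prime.pos)] at h1
  obtain ⟨a, -, ha⟩ := Nat.exists_mul_mod_eq_one_of_coprime ((Nat.coprime_primes H.p_prime H.q_prime).2 H.ne)
    H.q_prime.one_lt
  have h5 := P.nsmul_mem hmem a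
  rwa [← mul_nsmul, ← Nat.mod_add_div (p * a) q, ha, add_nsmul, mul_nsmul', H.exp,
    add_zero, one_nsmul] at h5

end Hyp

end Cfsg.Agent.HalfTrans
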