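import Cfsg.Agent.HalfTrans.Basic
import Cfsg.Agent.PGroups.TwoGroups

/-!
Half-transitive actions of dihedral and semidihedral groups: the fixed points of the non-central involutions
partition the non-zero elements.
-/

set_option autoImplicit false

namespace Cfsg.Agent.HalfTrans

open MulAction Subgroup

variable {G V : Type*} [Group G] [Finite G] [AddCommGroup V] [Finite V] [DistribMulAction G V]

variable {q : ℕ}

/-- Two commuting fixed-point spaces of `τ` and `τ z` fill `V`. -/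
theorem card_fixed_mul (H : Hyp 2 q G V) {z : G} (hz : ∀ g : G, g * z = z * g) (hz1 : z ≠ 1) (hz2 : z ^ 2 = 1)
    {τ : G} (hτ : τ ^ 2 = 1) :
    Nat.card {v : V // τ • v = v} * Nat.card {v : V // (τ * z) • v = v} = Nat.card V := by
  have hzv : ∀ v : V, z • v = -v := fun v => by
    have h1 : z • (v + z • v) = v + z • v := by
      rw [smul_add, ← mul_smul, ← pow_two, hz2, one_smul, add_comm]
    exact eq_neg_of_add_eq_zero_right (H.eq_zero_of_central hz hz1 h1)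
  have hτv : ∀ v : V, τ • τ • v = v := fun v => by rw [← mul_smul, ← pow_two, hτ, one_smul]
  rw [← Nat.card_prod]
  refine Nat.card_congr (Equiv.ofBijective (fun ab => (ab.1 : V) + ab.2) ⟨?_, fun v => ?_⟩)
  · rintro ⟨⟨a, ha⟩, b, hb⟩ ⟨⟨a', ha'⟩, b', hb'⟩ h
    have h' : a + b = a' + b' := h
    have hd : a - a' = b' - b := by rw [sub_eq_sub_iff_add_eq_add, h', add_comm b']
    have e1 : τ • (a - a') = a - a' := by rw [smul_sub, ha, ha']
    have e2 : (τ * z) • (a - a') = a - a' := by rw [hd, smul_sub, hb, hb']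
    have h0 : a - a' = 0 := H.eq_zero_of_central hz hz1 (by rwa [hz τ, mul_smul, e1] at e2)
    have h1 : a = a' := sub_eq_zero.1 h0
    subst h1
    simp only [add_right_inj] at h'
    subst h'
    rfl
  · obtain ⟨m, hm⟩ : ∃ m, q + 1 = 2 * m := by
      obtain ⟨j, hj⟩ := H.q_prime.odd_of_ne_two (Ne.symm H.ne)
      exact ⟨j + 1, by omega⟩
    refine ⟨(⟨m • (v + τ • v), ?_⟩, ⟨m • (v - τ • v), ?_⟩), ?_⟩
    · rw [smul_comm, smul_add, hτv, add_comm]
    · rw [smul_comm, mul_smul, smul_sub, hzv, hzv, smul_sub, smul_neg, smul_neg, hτv]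
      abel_nf
    · show m • (v + τ • v) + m • (v - τ • v) = v
      rw [← nsmul_add, show v + τ • v + (v - τ • v) = 2 • v by rw [two_nsmul]; abel, ← mul_nsmul, ← hm,
        add_nsmul, H.exp, zero_add, one_nsmul]

/-- The count: `|V| = Q ^ 2` and there are `Q + 1` involutions outside the cyclic subgroup. -/
theorem count [Nontrivial V] (H : Hyp 2 q G V) {k : ℕ} {c y : G} (hk : 2 ≤ k) (hc : orderOf c = 2 ^ k)
    (hcard : Nat.card G = 2 ^ (k + 1)) (hy : y ∉ zpowers c)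
    (hinv : y * c ^ 2 ^ (k - 2) * y⁻¹ = (c ^ 2 ^ (k - 2))⁻¹) :
    ∃ d : ℕ, Nat.card V = (q ^ d) ^ 2 ∧ Nat.card {g : G // g ∉ zpowers c ∧ g ^ 2 = 1} = q ^ d + 1 := by
  classical
  set c₀ := c ^ 2 ^ (k - 2) with hc₀
  set z := c₀ * c₀ with hzdef
  have hidx : (zpowers c).index = 2 := by
    have h1 := Subgroup.card_mul_index (zpowers c)
    rw [Nat.card_zpowers, hc, hcard, pow_succ] at h1
    exact Nat.eq_of_mul_eq_mul_left (Nat.two_pow_pos k) h1
  have hzc : z = c ^ 2 ^ (k - 1) := by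
    rw [hzdef, hc₀, ← pow_add, ← two_mul, ← pow_succ', show k - 2 + 1 = k - 1 by omega]
  have hz1 : z ≠ 1 := fun h => by
    have := Nat.le_of_dvd (Nat.two_pow_pos (k - 1)) (hc ▸ orderOf_dvd_of_pow_eq_one (hzc ▸ h))
    exact absurd ((Nat.pow_le_pow_iff_right (by norm_num)).1 this) (by omega)
  have hz2 : z ^ 2 = 1 := by
    rw [hzc, ← pow_mul, ← pow_succ, show k - 1 + 1 = k by omega, ← hc, pow_orderOf_eq_one]
  haveI hCn : (zpowers c).Normal := Subgroup.normal_of_index_eq_two hidx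
  have hout : ∀ g, g ∉ zpowers c → y⁻¹ * g ∈ zpowers c := fun g hg =>
    (Subgroup.mul_mem_iff_of_index_two hidx).2 (by simp [hy, hg])
  have hcomm : ∀ a ∈ zpowers c, ∀ b ∈ zpowers c, a * b = b * a := fun a ha b hb => by
    obtain ⟨i, rfl⟩ := Subgroup.mem_zpowers_iff.1 ha
    obtain ⟨j, rfl⟩ := Subgroup.mem_zpowers_iff.1 hb
    rw [← zpow_add, ← zpow_add, add_comm]
  have hc₀C : c₀ ∈ zpowers c := Subgroup.npow_mem_zpowers c _
  have hinv' : ∀ g, g ∉ zpowers c → g * c₀ * g⁻¹ = c₀⁻¹ := fun g hg => by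
    calc g * c₀ * g⁻¹ = y * ((y⁻¹ * g) * c₀ * (y⁻¹ * g)⁻¹) * y⁻¹ := by group
      _ = c₀⁻¹ := by rw [hcomm _ (hout g hg) _ hc₀C, mul_inv_cancel_right, hinv]
  have hzcen : ∀ g : G, g * z = z * g := fun g => by
    by_cases hg : g ∈ zpowers c
    · exact hcomm _ hg _ (mul_mem hc₀C hc₀C)
    · have h1 : g * z * g⁻¹ = z⁻¹ := by rw [hzdef, ← conj_mul, hinv' g hg, mul_inv_rev]
      rw [inv_eq_of_mul_eq_one_right (a := z) (b := z) (by rw [← pow_two, hz2]), mul_inv_eq_iff_eq_mul] at h1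
      exact h1
  -- stabilizers
  have hstab : ∀ v : V, v ≠ 0 → ∀ g ∈ stabilizer G v, g ∈ zpowers c → g = 1 := by
    intro v hv g hg hgc
    by_contra hg1
    haveI : Fact (Nat.Prime 2) := ⟨Nat.prime_two⟩
    obtain ⟨a, ha⟩ := IsPGroup.iff_orderOf.1 H.pgroup g
    have ha1 : 1 ≤ a := by
      by_contra h
      rw [show a = 0 by omega, pow_zero, orderOf_eq_one_iff] at ha
      exact hg1 ha
    have hoz : orderOf (g ^ 2 ^ (a - 1)) = 2 := by
      rw [orderOf_pow' _ (Nat.two_pow_pos _).ne', ha, Nat.gcd_eq_right (pow_dvd_pow 2 (Nat.sub_le a 1)),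
        Nat.pow_div (Nat.sub_le a 1) (by norm_num), show a - (a - 1) = 1 by omega, pow_one]
    have heq : g ^ 2 ^ (a - 1) = z := PGroups.eq_of_sq_eq_one (H := zpowers c) inferInstance (pow_mem hgc _)
      (mul_mem hc₀C hc₀C) (orderOf_dvd_iff_pow_eq_one.1 (dvd_of_eq hoz)) hz2
      (fun h => by rw [h, orderOf_one] at hoz; exact absurd hoz (by norm_num)) hz1
    exact hv (H.eq_zero_of_central hzcen hz1 (by rw [← heq]; exact mem_stabilizer_iff.1 (pow_mem hg _)))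
  have huniq : ∀ v : V, v ≠ 0 → ∃! g : G, (g ∉ zpowers c ∧ g ^ 2 = 1) ∧ g • v = v := by
    intro v hv
    obtain ⟨g, hg, hg1⟩ : ∃ g ∈ stabilizer G v, g ≠ 1 := by
      obtain ⟨⟨g, hg⟩, hg1⟩ := Subgroup.ne_bot_iff_exists_ne_one.1 (H.nontriv v hv)
      exact ⟨g, hg, fun h => hg1 (Subtype.ext h)⟩
    have hgc : g ∉ zpowers c := fun h => hg1 (hstab v hv g hg h)
    refine ⟨g, ⟨⟨hgc, hstab v hv _ (pow_mem hg 2) (Subgroup.sq_mem_of_index_two hidx g)⟩, hg⟩, ?_⟩
    rintro g' ⟨⟨hg'c, -⟩, hg'⟩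
    exact (inv_mul_eq_one.1 (hstab v hv (g⁻¹ * g') (mul_mem (inv_mem hg) hg')
      ((Subgroup.mul_mem_iff_of_index_two hidx).2 (by simp [hgc, hg'c])))).symm
  let I := {g : G // g ∉ zpowers c ∧ g ^ 2 = 1}
  let Fx : G → Type _ := fun g => {v : V // g • v = v}
  have hsq : ∀ τ : I, Nat.card (Fx τ.1) ^ 2 = Nat.card V := by
    intro τ
    rw [pow_two, ← card_fixed_mul H hzcen hz1 hz2 τ.2.2]
    refine congrArg _ (Nat.card_congr ?_)
    have hconj : c₀ * τ.1 * c₀⁻¹ = τ.1 * z := by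
      have h1 := hinv' τ.1 τ.2.1
      rw [mul_inv_eq_iff_eq_mul] at h1
      have h2 : c₀ * τ.1 = τ.1 * c₀⁻¹ := by
        rw [eq_mul_inv_iff_mul_eq, mul_assoc, h1, ← mul_assoc, mul_inv_cancel, one_mul]
      rw [h2, mul_assoc]
      refine congrArg _ ?_
      rw [← mul_inv_rev, ← hzdef, inv_eq_of_mul_eq_one_right (by rw [← pow_two, hz2])]
    exact
      { toFun := fun v => ⟨c₀ • v.1, by
          have h3 : (c₀ * τ.1 * c₀⁻¹) • (c₀ • v.1) = c₀ • v.1 := by
            rw [← mul_smul, inv_mul_cancel_right, mul_smul, v.2]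
          rwa [hconj] at h3⟩
        invFun := fun v => ⟨c₀⁻¹ • v.1, by
          have h3 : (c₀⁻¹ * (τ.1 * z) * c₀) • (c₀⁻¹ • v.1) = c₀⁻¹ • v.1 := by
            rw [← mul_smul, mul_inv_cancel_right, mul_smul, v.2]
          have h4 : c₀⁻¹ * (τ.1 * z) * c₀ = τ.1 := by rw [← hconj]; group
          rwa [h4] at h3⟩
        left_inv := fun v => Subtype.ext (inv_smul_smul _ _)
        right_inv := fun v => Subtype.ext (smul_inv_smul _ _) }
  obtain ⟨v₀, hv₀⟩ := exists_ne (0 : V)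
  obtain ⟨τ₀, ⟨hτ₀, -⟩, -⟩ := huniq v₀ hv₀
  haveI : Fact q.Prime := ⟨H.q_prime⟩
  obtain ⟨n, hn⟩ : ∃ n, Nat.card V = q ^ n := by
    have : IsPGroup q (Multiplicative V) := fun x => ⟨1, by
      rw [pow_one]; exact congrArg Multiplicative.ofAdd (H.exp (Multiplicative.toAdd x))⟩
    obtain ⟨n, hn⟩ := IsPGroup.iff_card.1 this
    exact ⟨n, by rw [← hn]; exact Nat.card_congr Multiplicative.ofAdd⟩
  obtain ⟨d, -, hd⟩ : ∃ d ≤ n, Nat.card (Fx τ₀) = q ^ d := by
    refine (Nat.dvd_prime_pow H.q_prime).1 ?_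
    rw [← hn, ← hsq ⟨τ₀, hτ₀⟩]
    exact dvd_pow_self _ two_ne_zero
  have hV : Nat.card V = (q ^ d) ^ 2 := by rw [← hd, hsq ⟨τ₀, hτ₀⟩]
  refine ⟨d, hV, ?_⟩
  have hall : ∀ τ : I, Nat.card (Fx τ.1) = q ^ d := fun τ =>
    Nat.pow_left_injective two_ne_zero ((hsq τ).trans hV)
  have key : Nat.card {v : V // v ≠ 0} = Nat.card I * (q ^ d - 1) := by
    choose f hf hf' using fun v : {v : V // v ≠ 0} => huniq v.1 v.2
    let F : {v : V // v ≠ 0} → I := fun v => ⟨f v, (hf v).1⟩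
    have hfib : ∀ τ : I, Nat.card {v // F v = τ} = Nat.card {x : Fx τ.1 // x.1 ≠ 0} := fun τ =>
      Nat.card_congr
        { toFun := fun v => ⟨⟨v.1.1, by
            have h5 := (hf v.1).2
            rwa [show f v.1 = τ.1 from congrArg Subtype.val v.2] at h5⟩, v.1.2⟩
          invFun := fun x => ⟨⟨x.1.1, x.2⟩, Subtype.ext (hf' ⟨x.1.1, x.2⟩ τ.1 ⟨τ.2, x.1.2⟩).symm⟩
          left_inv := fun v => rfl
          right_inv := fun x => rfl }
    letI := Fintype.ofFinite I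
    rw [← Nat.card_congr (Equiv.sigmaFiberEquiv F), Nat.card_sigma, Finset.sum_congr rfl (g := fun _ => q ^ d - 1) (fun τ _ => ?_),
      Finset.sum_const, Finset.card_univ, smul_eq_mul, Nat.card_eq_fintype_card (α := I)]
    rw [hfib τ, ← hall τ]
    have h0 : (⟨0, smul_zero _⟩ : Fx τ.1) ∈ ({⟨0, smul_zero _⟩} : Set (Fx τ.1)) := rfl
    have h1 : Nat.card {x : Fx τ.1 // x.1 ≠ 0} = (({⟨0, smul_zero _⟩} : Set (Fx τ.1))ᶜ).ncard :=
      Nat.card_congr (Equiv.subtypeEquivRight fun x =>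
        show x.1 ≠ 0 ↔ ¬(x = ⟨0, smul_zero _⟩) from ⟨fun h e => h (congrArg Subtype.val e), fun h e => h (Subtype.ext e)⟩)
    rw [h1, Set.ncard_compl, Set.ncard_singleton]
  have hne0 : Nat.card {v : V // v ≠ 0} = Nat.card V - 1 := by
    show ({0}ᶜ : Set V).ncard = _
    rw [Set.ncard_compl, Set.ncard_singleton]
  have hQ : 2 ≤ q ^ d := by
    by_contra h
    have : Nat.card V ≤ 1 := hV ▸ by
      have : q ^ d ≤ 1 := by omega
      exact (Nat.pow_le_pow_left this 2).trans (by norm_num)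
    exact absurd Finite.one_lt_card (not_lt.2 this)
  rw [hne0, hV] at key
  refine Nat.eq_of_mul_eq_mul_right (show 0 < q ^ d - 1 by omega) (key.symm.trans ?_)
  rw [pow_two, ← Nat.mul_self_sub_mul_self_eq]

end Cfsg.Agent.HalfTrans
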