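import Cfsg.Agent.HalfTrans.Split
import Cfsg.Agent.HalfTrans.Dihedral
import Cfsg.Agent.PGroups.PCentral

/-!
A half-transitive `p`-group with a normal elementary abelian subgroup of order `p ^ 2`: the eigenspace
decomposition, and the monomial description when both eigenspaces have order `q`.
-/

set_option autoImplicit false

namespace Cfsg.Agent.HalfTrans

open MulAction Subgroup

variable {G V : Type*} [Group G] [Finite G] [AddCommGroup V] [Finite V] [DistribMulAction G V]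

variable {p q : ℕ}

/-- The data of a pair exist. -/
theorem exists_pair [Fact p.Prime] [Nontrivial V] (H : Hyp p q G V) {E : Subgroup G} [E.Normal]
    (hE : Nat.card E = p ^ 2) (hexp : ∀ a ∈ E, a ^ p = 1) :
    ∃ (T : Pair p G) (u : V), T.e • u = u ∧ u ≠ 0 := by
  have hp := H.p_prime
  have hEne : E ≠ ⊥ := fun h => by
    rw [h, Subgroup.card_bot] at hE
    exact (Nat.one_lt_pow two_ne_zero hp.one_lt).ne hE
  obtain ⟨z, hzE, hzc, hzo⟩ := PGroups.exists_mem_center_orderOf_eq H.pgroup E hEne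
  have hzg : ∀ (m : ℕ) (g : G), g * z ^ m = z ^ m * g := fun m g =>
    Subgroup.mem_center_iff.1 (pow_mem hzc m) g
  have hle : zpowers z ≤ E := zpowers_le.2 hzE
  obtain ⟨e, heE, hez⟩ : ∃ e ∈ E, e ∉ zpowers z := by
    refine SetLike.exists_of_lt (lt_of_le_of_ne hle fun h => ?_)
    rw [← h, Nat.card_zpowers, hzo, pow_two] at hE
    exact (lt_mul_of_one_lt_left hp.pos hp.one_lt).ne hE
  haveI : (zpowers z).Normal := PGroups.normal_of_le_center (zpowers_le.2 hzc)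
  have hquot : E.map (QuotientGroup.mk' (zpowers z)) ≤ center (G ⧸ zpowers z) := by
    haveI : (E.map (QuotientGroup.mk' (zpowers z))).Normal :=
      Subgroup.Normal.map inferInstance _ (QuotientGroup.mk'_surjective _)
    refine PGroups.le_center_of_card_eq (H.pgroup.to_quotient _) _ ?_
    have h1 := PGroups.card_eq_card_map_mul (zpowers z) E
    rw [hE, inf_eq_right.2 hle, Nat.card_zpowers, hzo, pow_two] at h1
    exact (Nat.eq_of_mul_eq_mul_right hp.pos h1).symm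
  have hconj : ∀ g : G, ∃ c : ℕ, g * e * g⁻¹ = e * z ^ c := fun g => by
    have h1 := Subgroup.mem_center_iff.1 (hquot ⟨e, heE, rfl⟩) (QuotientGroup.mk' (zpowers z) g)
    have h2 : e⁻¹ * (g * e * g⁻¹) ∈ zpowers z := by
      rw [← QuotientGroup.eq_one_iff, ← QuotientGroup.mk'_apply]
      simp only [map_mul, map_inv, h1, mul_inv_cancel_right, inv_mul_cancel]
    obtain ⟨c, hc⟩ := (isOfFinOrder_of_finite z).mem_powers_iff_mem_zpowers.2 h2
    exact ⟨c, by rw [show z ^ c = e⁻¹ * (g * e * g⁻¹) from hc, mul_inv_cancel_left]⟩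
  have hne : ∀ m : ℕ, e * z ^ m ≠ 1 := fun m h => hez (by
    rw [eq_inv_of_mul_eq_one_left h]
    exact inv_mem (npow_mem_zpowers z m))
  have hz1 : z ≠ 1 := fun h => by rw [h, orderOf_one] at hzo; exact hp.ne_one hzo.symm
  have hzp : z ^ p = 1 := hzo ▸ pow_orderOf_eq_one z
  obtain ⟨v, hv⟩ := exists_ne (0 : V)
  obtain ⟨g₀, c₀, hg₀, hc₀⟩ : ∃ g₀ c₀, g₀ * e * g₀⁻¹ = e * z ^ c₀ ∧ z ^ c₀ ≠ 1 := by
    by_contra hno
    push Not at hno
    refine hv (AddSubgroup.mem_bot.1 (H.eq_zero_of_eigen (fun g => by simpa using hzg 1 g) hz1 hzp (hexp e heE)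
      ⊥ (fun j y hy => AddSubgroup.mem_bot.2 ?_) v))
    refine H.eq_zero_of_central (fun g => ?_) (hne j) hy
    obtain ⟨c, hc⟩ := hconj g
    have he : g * e = e * g := by
      rw [hno g c hc, mul_one, mul_inv_eq_iff_eq_mul] at hc; exact hc
    rw [← mul_assoc, he, mul_assoc, hzg j g, mul_assoc]
  have hgen : ∀ c : ℕ, ∃ m : ℕ, z ^ c = (z ^ c₀) ^ m := fun c => by
    have h1 : zpowers (z ^ c₀) = zpowers z := Subgroup.eq_of_le_of_card_ge
      (zpowers_le.2 (npow_mem_zpowers z c₀)) (le_of_eq (by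
        rw [Nat.card_zpowers, Nat.card_zpowers, hzo,
          orderOf_eq_prime (by rw [← pow_mul, mul_comm, pow_mul, hzp, one_pow]) hc₀]))
    obtain ⟨m, hm⟩ := (isOfFinOrder_of_finite (z ^ c₀)).mem_powers_iff_mem_zpowers.2
      (h1.symm ▸ npow_mem_zpowers z c : z ^ c ∈ zpowers (z ^ c₀))
    exact ⟨m, hm.symm⟩
  obtain ⟨j, u, hu, hu0⟩ : ∃ (j : ℕ) (u : V), (e * (z ^ c₀) ^ j) • u = u ∧ u ≠ 0 := by
    by_contra hno
    push Not at hno
    exact hv (AddSubgroup.mem_bot.1 (H.eq_zero_of_eigen (hzg c₀) hc₀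
      (by rw [← pow_mul, mul_comm, pow_mul, hzp, one_pow]) (hexp e heE)
      ⊥ (fun j y hy => AddSubgroup.mem_bot.2 (hno j y hy)) v))
  have hshift : ∀ (g : G) (c : ℕ), g * e * g⁻¹ = e * z ^ c →
      g * (e * (z ^ c₀) ^ j) * g⁻¹ = e * (z ^ c₀) ^ j * z ^ c := fun g c h => by
    calc g * (e * (z ^ c₀) ^ j) * g⁻¹ = (g * e * g⁻¹) * (g * (z ^ c₀) ^ j * g⁻¹) := by group
      _ = _ := by
        rw [h, ← pow_mul z c₀ j, hzg (c₀ * j) g, mul_inv_cancel_right, mul_assoc, mul_assoc,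
          ((Commute.refl z).pow_pow c (c₀ * j)).eq]
  refine ⟨⟨z ^ c₀, e * (z ^ c₀) ^ j, g₀, hzg c₀, hc₀, by rw [← pow_mul, mul_comm, pow_mul, hzp, one_pow], ?_,
    fun g => ?_, hshift g₀ c₀ hg₀⟩, u, hu, hu0⟩
  · exact hexp _ (mul_mem heE (pow_mem (pow_mem hzE c₀) j))
  · obtain ⟨c, hc⟩ := hconj g
    obtain ⟨m, hm⟩ := hgen c
    exact ⟨m, by rw [hshift g c hc, hm]⟩

variable (T : Pair 2 G)

theorem fixed_inter (H : Hyp 2 q G V) {x : V} (h0 : T.e • x = x) (h1 : (T.e * T.z) • x = x) : x = 0 :=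
  H.eq_zero_of_central T.central T.z_ne (by rwa [T.central T.e, mul_smul, h0] at h1)

/-- The two eigenspaces have order `Q = q ^ d` and `Q - 1` is a power of `2`. -/
theorem split (H : Hyp 2 q G V) {u : V} (hu : T.e • u = u) (hu0 : u ≠ 0) :
    ∃ d k : ℕ, 1 ≤ d ∧ Nat.card V = (q ^ d) ^ 2 ∧ q ^ d = 2 ^ k + 1 ∧
      Nat.card {v : V // T.e • v = v} = q ^ d ∧ Nat.card {v : V // (T.e * T.z) • v = v} = q ^ d := by
  haveI : Fact (Nat.Prime 2) := ⟨Nat.prime_two⟩
  haveI : Fact q.Prime := ⟨H.q_prime⟩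
  have h01 : Nat.card {v : V // T.e • v = v} = Nat.card {v : V // (T.e * T.z) • v = v} := Nat.card_congr
    { toFun := fun v => ⟨T.g₀ • v.1, by simpa using T.fixed_shift 1 v.2⟩
      invFun := fun v => ⟨T.g₀⁻¹ • v.1, by simpa using T.fixed_unshift 1 (x := v.1) (by simpa using v.2)⟩
      left_inv := fun v => Subtype.ext (inv_smul_smul _ _)
      right_inv := fun v => Subtype.ext (smul_inv_smul _ _) }
  have hmul := card_fixed_mul H T.central T.z_ne T.z_pow T.e_pow (V := V)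
  rw [← h01] at hmul
  obtain ⟨n, hn⟩ : ∃ n, Nat.card V = q ^ n := by
    have : IsPGroup q (Multiplicative V) := fun x => ⟨1, by
      rw [pow_one]; exact congrArg Multiplicative.ofAdd (H.exp (Multiplicative.toAdd x))⟩
    obtain ⟨n, hn⟩ := IsPGroup.iff_card.1 this
    exact ⟨n, by rw [← hn]; exact Nat.card_congr Multiplicative.ofAdd⟩
  obtain ⟨d, -, hd⟩ : ∃ d ≤ n, Nat.card {v : V // T.e • v = v} = q ^ d := by
    refine (Nat.dvd_prime_pow H.q_prime).1 ?_
    rw [← hn, ← hmul]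
    exact dvd_mul_right _ _
  have hd1 : 1 ≤ d := by
    by_contra h
    rw [show d = 0 by omega, pow_zero] at hd
    exact hu0 (congrArg Subtype.val ((Nat.card_eq_one_iff_unique.1 hd).1.elim
      (⟨u, hu⟩ : {v : V // T.e • v = v}) ⟨0, smul_zero _⟩))
  have hV : Nat.card V = (q ^ d) ^ 2 := by rw [← hd, pow_two, hmul]
  set w := T.g₀ • u with hwdef
  have hw : (T.e * T.z) • w = w := by simpa using T.fixed_shift 1 hu
  have hw0 : w ≠ 0 := (smul_ne_zero_iff_ne _).2 hu0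
  have hq2 : q ≠ 2 := fun h => H.ne h.symm
  let C := Subgroup.centralizer ({T.e} : Set G)
  have horb : orbit C w = {v : V | (T.e * T.z) • v = v} \ {0} := by
    ext v
    constructor
    · rintro ⟨⟨g, hg⟩, rfl⟩
      refine ⟨?_, (smul_ne_zero_iff_ne _).2 hw0⟩
      show (T.e * T.z) • g • w = g • w
      rw [Subgroup.mem_centralizer_singleton_iff] at hg
      have : T.e * T.z * g = g * (T.e * T.z) := by
        rw [mul_assoc, ← T.central g, ← mul_assoc, ← hg, mul_assoc]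
      rw [← mul_smul, this, mul_smul, hw]
    · rintro ⟨hv, hv0⟩
      obtain ⟨h, hh, rfl⟩ := T.transitive H hq2 rfl hu hu0 hw hw0 hv hv0
      exact ⟨⟨h, Subgroup.mem_centralizer_singleton_iff.2 (mul_inv_eq_iff_eq_mul.1 hh)⟩, rfl⟩
  have horbc : (orbit C w).ncard = q ^ d - 1 := by
    rw [horb, Set.ncard_sdiff_singleton_of_mem (show (0 : V) ∈ {v : V | (T.e * T.z) • v = v} from smul_zero _), ← hd, h01]
    rfl
  obtain ⟨N, hN⟩ := IsPGroup.iff_card.1 H.pgroup
  obtain ⟨k, -, hk⟩ : ∃ k ≤ N, q ^ d - 1 = 2 ^ k := by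
    refine (Nat.dvd_prime_pow Nat.prime_two).1 ?_
    rw [← horbc, ← index_stabilizer, ← hN]
    exact (Subgroup.index_dvd_card _).trans (Subgroup.card_subgroup_dvd_card C)
  refine ⟨d, k, hd1, hV, ?_, hd, by rw [← h01, hd]⟩
  have := Nat.one_le_pow d q H.q_prime.pos
  omega

variable [Module (ZMod q) V] [Fact q.Prime]

/-- The monomial description. -/
theorem monomial (H : Hyp 2 q G V) (hlin : ∀ (g : G) (a : ZMod q) (v : V), g • a • v = a • g • v)
    {u : V} (hu : T.e • u = u) (hu0 : u ≠ 0) (hc0 : Nat.card {v : V // T.e • v = v} = q)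
    (hc1 : Nat.card {v : V // (T.e * T.z) • v = v} = q) (hV : Nat.card V = q ^ 2) :
    ∃ b : (Fin 2 → ZMod q) ≃ₗ[ZMod q] V,
      (∀ g : G, ∃ a s : ZMod q, a ≠ 0 ∧ (s = 1 ∨ s = -1) ∧
        ((∀ x, g • b x = b ![a * x 0, s * a⁻¹ * x 1]) ∨ (∀ x, g • b x = b ![s * a⁻¹ * x 1, a * x 0]))) ∧
      ∀ a s : ZMod q, a ≠ 0 → (s = 1 ∨ s = -1) →
        (∃ g : G, ∀ x, g • b x = b ![a * x 0, s * a⁻¹ * x 1]) ∧
        (∃ g : G, ∀ x, g • b x = b ![s * a⁻¹ * x 1, a * x 0]) := by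
  haveI : Fact (Nat.Prime 2) := ⟨Nat.prime_two⟩
  set w := T.g₀ • u with hwdef
  have hw : (T.e * T.z) • w = w := by simpa using T.fixed_shift 1 hu
  have hw0 : w ≠ 0 := (smul_ne_zero_iff_ne _).2 hu0
  have hline : ∀ (g : G) (t : V), g • t = t → t ≠ 0 → Nat.card {v : V // g • v = v} = q →
      ∀ x, g • x = x → ∃ a : ZMod q, x = a • t := by
    intro g t ht ht0 hcard x hx
    let f : ZMod q → {v : V // g • v = v} := fun a => ⟨a • t, by rw [hlin, ht]⟩
    have hf : Function.Injective f := fun a b h => smul_left_injective (ZMod q) ht0 (congrArg Subtype.val h)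
    obtain ⟨a, ha⟩ := (hf.bijective_of_nat_card_le (by rw [hcard, Nat.card_zmod])).2 ⟨x, hx⟩
    exact ⟨a, (congrArg Subtype.val ha).symm⟩
  have hV0 := hline T.e u hu hu0 hc0
  have hV1 := hline _ w hw hw0 hc1
  let L : (Fin 2 → ZMod q) →ₗ[ZMod q] V :=
    (LinearMap.proj 0).smulRight u + (LinearMap.proj 1).smulRight w
  have hL : ∀ x, L x = x 0 • u + x 1 • w := fun x => rfl
  have hLinj : Function.Injective L := by
    rw [injective_iff_map_eq_zero]
    intro x hx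
    rw [hL] at hx
    have h1 : x 0 • u = 0 := fixed_inter T H (by rw [hlin, hu]) (by
      rw [eq_neg_of_add_eq_zero_left hx, smul_neg, hlin, hw])
    rw [h1, zero_add] at hx
    ext i
    fin_cases i
    · exact (smul_eq_zero.1 h1).resolve_right hu0
    · exact (smul_eq_zero.1 hx).resolve_right hw0
  let b : (Fin 2 → ZMod q) ≃ₗ[ZMod q] V := LinearEquiv.ofBijective L
    (hLinj.bijective_of_nat_card_le (by rw [hV, Nat.card_fun, Nat.card_zmod, Nat.card_fin]))
  have hb : ∀ x, b x = x 0 • u + x 1 • w := hL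
  have hmap : ∀ (g : G) (α β γ δ : ZMod q), g • u = α • u + β • w → g • w = γ • u + δ • w →
      ∀ x, g • b x = b ![α * x 0 + γ * x 1, β * x 0 + δ * x 1] := by
    intro g α β γ δ h1 h2 x
    rw [hb, hb, smul_add, hlin, hlin, h1, h2]
    simp only [Matrix.cons_val_zero, Matrix.cons_val_one]
    rw [smul_add, smul_add, smul_smul, smul_smul, smul_smul, smul_smul, add_smul, add_smul, mul_comm (x 0) α,
      mul_comm (x 0) β, mul_comm (x 1) γ, mul_comm (x 1) δ]
    abel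
  have hcase : ∀ g : G, ((∃ α : ZMod q, g • u = α • u) ∧ ∃ δ : ZMod q, g • w = δ • w) ∨
      ((∃ β : ZMod q, g • u = β • w) ∧ ∃ γ : ZMod q, g • w = γ • u) := by
    intro g
    obtain ⟨c, hc⟩ := T.conj g
    have hmv : ∀ (τ τ' : G) (t : V), g * τ * g⁻¹ = τ' → τ • t = t → τ' • g • t = g • t := fun τ τ' t h ht => by
      rw [← h, ← mul_smul, inv_mul_cancel_right, mul_smul, ht]
    have hgz : g * T.z * g⁻¹ = T.z := by rw [T.central g, mul_inv_cancel_right]
    rcases Nat.even_or_odd' c with ⟨m, rfl | rfl⟩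
    · rw [pow_mul, T.z_pow, one_pow, mul_one] at hc
      refine Or.inl ⟨hV0 _ (hmv _ _ u hc hu), hV1 _ (hmv (T.e * T.z) _ w ?_ hw)⟩
      rw [← conj_mul, hc, hgz]
    · rw [pow_succ, pow_mul, T.z_pow, one_pow, one_mul] at hc
      refine Or.inr ⟨hV1 _ (hmv _ _ u hc hu), hV0 _ (hmv (T.e * T.z) _ w ?_ hw)⟩
      rw [← conj_mul, hc, hgz, mul_assoc, ← pow_two, T.z_pow, mul_one]
  have hind : ∀ a c : ZMod q, a • u = c • w → a = 0 ∧ c = 0 := fun a c h => by
    have h1 : a • u = 0 := fixed_inter T H (by rw [hlin, hu]) (by rw [h, hlin, hw])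
    exact ⟨(smul_eq_zero.1 h1).resolve_right hu0, (smul_eq_zero.1 (h ▸ h1)).resolve_right hw0⟩
  have hext : ∀ g : G, g • u = u → g • w = w → g = 1 := fun g h1 h2 => H.faithful g fun v => by
    obtain ⟨x, rfl⟩ := b.surjective v
    rw [hb, smul_add, hlin, hlin, h1, h2]
  -- stabilizers
  have hcross : ∀ a : ZMod q, a ≠ 0 → ∀ g : G, g • (u + a • w) = u + a • w →
      g = 1 ∨ g • u = a • w ∧ g • (a • w) = u := by
    intro a ha g hg
    have haw : (T.e * T.z ^ 1) • (a • w) = a • w := by rw [pow_one, hlin, hw]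
    rcases T.cross H hu hu0 haw (smul_ne_zero ha hw0) (by rw [pow_one]; exact T.z_ne) hg with
      ⟨h1, h2⟩ | ⟨-, h1, h2⟩
    · refine Or.inl (hext g h1 ?_)
      rw [hlin] at h2
      exact smul_right_injective V ha h2
    · exact Or.inr ⟨h1, h2⟩
  have hsum : ∀ a : ZMod q, u + a • w ≠ 0 := fun a h => one_ne_zero
    (hind 1 (-a) (by rw [one_smul, neg_smul]; exact eq_neg_of_add_eq_zero_left h)).1
  have hnt : ∀ v : V, v ≠ 0 → ∃ g : G, g • v = v ∧ g ≠ 1 := fun v hv => by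
    obtain ⟨⟨g, hg⟩, hg1⟩ := Subgroup.ne_bot_iff_exists_ne_one.1 (H.nontriv v hv)
    exact ⟨g, hg, fun h => hg1 (Subtype.ext h)⟩
  have hswap : ∀ a : ZMod q, a ≠ 0 → ∃ h : G, h • u = a • w ∧ h • w = a⁻¹ • u := by
    intro a ha
    obtain ⟨g, hg, hg1⟩ := hnt _ (hsum a)
    obtain ⟨h1, h2⟩ := (hcross a ha g hg).resolve_left hg1
    exact ⟨g, h1, (eq_inv_smul_iff₀ ha).2 (by rw [← hlin]; exact h2)⟩
  have hcard2 : Nat.card (stabilizer G u) = 2 := by
    obtain ⟨g₁, hg₁, hg₁1⟩ := hnt _ (hsum 1)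
    rw [H.card_eq u _ hu0 (hsum 1), Nat.card_eq_two_iff]
    refine ⟨1, ⟨g₁, hg₁⟩, fun h => hg₁1 (congrArg Subtype.val h).symm, ?_⟩
    refine Set.eq_univ_of_forall fun g => ?_
    obtain ⟨h1, h2⟩ := (hcross 1 one_ne_zero _ hg₁).resolve_left hg₁1
    rcases hcross 1 one_ne_zero _ g.2 with h | ⟨h3, h4⟩
    · exact Or.inl (Subtype.ext h)
    · refine Or.inr (Subtype.ext (inv_mul_eq_one.1 (hext (g₁⁻¹ * g.1) ?_ ?_)).symm)
      · rw [mul_smul, h3, inv_smul_eq_iff, h1]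
      · simp only [one_smul] at h2 h4
        rw [mul_smul, h4, inv_smul_eq_iff, h2]
  have hstab : ∀ g : G, g • u = u → ∃ s : ZMod q, (s = 1 ∨ s = -1) ∧ g • w = s • w := by
    intro g hg
    rcases hcase g with ⟨-, δ, hδ⟩ | ⟨⟨β, hβ⟩, -⟩
    · refine ⟨δ, mul_self_eq_one_iff.1 ?_, hδ⟩
      have hg2 : g * g = 1 := by
        have := orderOf_dvd_natCard (⟨g, hg⟩ : stabilizer G u)
        rw [hcard2, orderOf_dvd_iff_pow_eq_one, pow_two] at this
        exact congrArg Subtype.val this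
      have h1 : g • g • w = w := by rw [← mul_smul, hg2, one_smul]
      rw [hδ, hlin, hδ, smul_smul] at h1
      exact smul_left_injective (ZMod q) hw0 (h1.trans (one_smul _ w).symm)
    · exact absurd (hind 1 β (by rw [one_smul, ← hg, hβ])).1 one_ne_zero
  obtain ⟨h₀, hh₀u, hh₀w⟩ : ∃ h : G, h • u = u ∧ h • w = (-1 : ZMod q) • w := by
    obtain ⟨h, hh, hh1⟩ := hnt u hu0
    obtain ⟨s, rfl | rfl, hs⟩ := hstab h hh
    · exact absurd (hext h hh (by rw [hs, one_smul])) hh1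
    · exact ⟨h, hh, hs⟩
  obtain ⟨h₁, hh₁u, hh₁w⟩ := hswap 1 one_ne_zero
  rw [one_smul] at hh₁u
  rw [inv_one, one_smul] at hh₁w
  refine ⟨b, fun g => ?_, fun a s ha hs => ?_⟩
  · rcases hcase g with ⟨⟨a, hgu⟩, δ, hgw⟩ | ⟨⟨a, hgu⟩, γ, hgw⟩
    · have ha : a ≠ 0 := fun h => hu0 ((smul_eq_zero_iff_eq g).1 (by rw [hgu, h, zero_smul]))
      obtain ⟨h, hhu, hhw⟩ := hswap a ha
      have hku : ((h₁ * h)⁻¹ * g) • u = u := by
        rw [mul_smul, hgu, inv_smul_eq_iff, mul_smul, hhu, hlin, hh₁w]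
      obtain ⟨s, hs, hkw⟩ := hstab _ hku
      have hgw' : g • w = (s * a⁻¹) • w := by
        rw [mul_smul, inv_smul_eq_iff] at hkw
        rw [hkw, hlin, mul_smul, hhw, hlin, hh₁u, smul_smul]
      exact ⟨a, s, ha, hs, Or.inl fun x => by
        simpa using hmap g a 0 0 _ (by rw [hgu, zero_smul, add_zero]) (by rw [hgw', zero_smul, zero_add]) x⟩
    · have ha : a ≠ 0 := fun h => hu0 ((smul_eq_zero_iff_eq g).1 (by rw [hgu, h, zero_smul]))
      obtain ⟨h, hhu, hhw⟩ := hswap a ha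
      have hku : (h⁻¹ * g) • u = u := by rw [mul_smul, hgu, inv_smul_eq_iff, hhu]
      obtain ⟨s, hs, hkw⟩ := hstab _ hku
      have hgw' : g • w = (s * a⁻¹) • u := by
        rw [mul_smul, inv_smul_eq_iff] at hkw
        rw [hkw, hlin, hhw, smul_smul]
      exact ⟨a, s, ha, hs, Or.inr fun x => by
        simpa using hmap g 0 a _ 0 (by rw [hgu, zero_smul, zero_add]) (by rw [hgw', zero_smul, add_zero]) x⟩
  · obtain ⟨h, hhu, hhw⟩ := hswap a ha
    rcases hs with rfl | rfl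
    · refine ⟨⟨h₁ * h, fun x => ?_⟩, ⟨h, fun x => ?_⟩⟩
      · simpa using hmap _ a 0 0 a⁻¹ (by rw [mul_smul, hhu, hlin, hh₁w, zero_smul, add_zero])
          (by rw [mul_smul, hhw, hlin, hh₁u, zero_smul, zero_add]) x
      · simpa using hmap _ 0 a a⁻¹ 0 (by rw [hhu, zero_smul, zero_add]) (by rw [hhw, zero_smul, add_zero]) x
    · refine ⟨⟨h₀ * (h₁ * h), fun x => ?_⟩, ⟨h * h₀, fun x => ?_⟩⟩
      · simpa using hmap _ a 0 0 (-a⁻¹)
          (by rw [mul_smul, mul_smul, hhu, hlin, hh₁w, hlin, hh₀u, zero_smul, add_zero])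
          (by rw [mul_smul, mul_smul, hhw, hlin, hh₁u, hlin, hh₀w, smul_smul, mul_neg_one, zero_smul, zero_add]) x
      · simpa using hmap _ 0 a (-a⁻¹) 0 (by rw [mul_smul, hh₀u, hhu, zero_smul, zero_add])
          (by rw [mul_smul, hh₀w, hlin, hhw, smul_smul, neg_one_mul, zero_smul, add_zero]) x

end Cfsg.Agent.HalfTrans
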