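import Cfsg.Agent.HalfTrans.Basic

/-!
The half-transitive action with a normal elementary abelian subgroup `⟨z, e⟩` of order `p ^ 2`: only `p = 2`
survives, and the centralizer of `e` is transitive on each of the two eigenspaces.
-/

set_option autoImplicit false

namespace Cfsg.Agent.HalfTrans

open MulAction

variable {G V : Type*} [Group G] [Finite G] [AddCommGroup V] [Finite V] [DistribMulAction G V]

variable {p q : ℕ}

/-- The data: `z` central of order `p`, `e` of order `p`, conjugated into `e ⟨z⟩`, once onto `e z`. -/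
structure Pair (p : ℕ) (G : Type*) [Group G] where
  z : G
  e : G
  g₀ : G
  central : ∀ g : G, g * z = z * g
  z_ne : z ≠ 1
  z_pow : z ^ p = 1
  e_pow : e ^ p = 1
  conj : ∀ g : G, ∃ c : ℕ, g * e * g⁻¹ = e * z ^ c
  shift : g₀ * e * g₀⁻¹ = e * z

namespace Pair

variable (T : Pair p G)

omit [Finite G] in
theorem shift_pow (j : ℕ) : T.g₀ ^ j * T.e * (T.g₀ ^ j)⁻¹ = T.e * T.z ^ j := by
  induction j with
  | zero => simp
  | succ j ih =>
    calc T.g₀ ^ (j + 1) * T.e * (T.g₀ ^ (j + 1))⁻¹ = T.g₀ * (T.g₀ ^ j * T.e * (T.g₀ ^ j)⁻¹) * T.g₀⁻¹ := by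
          rw [pow_succ']; group
      _ = (T.g₀ * T.e * T.g₀⁻¹) * (T.g₀ * T.z ^ j * T.g₀⁻¹) := by rw [ih]; group
      _ = T.e * T.z ^ (j + 1) := by
          rw [T.shift, ((show Commute T.g₀ T.z from T.central T.g₀).pow_right j).eq, mul_inv_cancel_right,
            mul_assoc, ← pow_succ']

omit [Finite G] [Finite V] in
theorem commute_pow (k l : ℕ) (x : V) :
    (T.e * T.z ^ k) • (T.e * T.z ^ l) • x = (T.e * T.z ^ l) • (T.e * T.z ^ k) • x := by
  have h1 : Commute (T.z ^ k) T.e := ((show Commute T.e T.z from T.central T.e).pow_right k).symm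
  have h2 : Commute T.e (T.z ^ l) := (show Commute T.e T.z from T.central T.e).pow_right l
  rw [← mul_smul, ← mul_smul]
  refine congrArg (· • x) ?_
  exact ((Commute.refl T.e).mul_right h2).mul_left
    (h1.mul_right ((Commute.refl T.z).pow_pow k l)) |>.eq

variable (H : Hyp p q G V) {u w : V} {j : ℕ}

include H

theorem eq_zero_of_fixed {k : ℕ} (hk : T.z ^ k ≠ 1) {x : V} (h : T.z ^ k • x = x) : x = 0 :=
  H.eq_zero_of_central (fun g => ((show Commute g T.z from T.central g).pow_right k).eq) hk h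

/-- An element fixing `u + w`, for `u`, `w` in different eigenspaces, fixes both or exchanges them. -/
theorem cross (hu : T.e • u = u) (hu0 : u ≠ 0) (hw : (T.e * T.z ^ j) • w = w) (hw0 : w ≠ 0)
    (hj : T.z ^ j ≠ 1) {h : G} (hh : h • (u + w) = u + w) :
    (h • u = u ∧ h • w = w) ∨ (p = 2 ∧ h • u = w ∧ h • w = u) := by
  obtain ⟨i, hi⟩ := T.conj h
  have hzi : ∀ (k : ℕ) (g : G), g * T.z ^ k = T.z ^ k * g := fun k g =>
    ((show Commute g T.z from T.central g).pow_right k).eq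
  have hmv : ∀ (k : ℕ) (x : V), (T.e * T.z ^ k) • x = x → (T.e * T.z ^ (i + k)) • (h • x) = h • x := by
    intro k x hx
    have : T.e * T.z ^ (i + k) * h = h * (T.e * T.z ^ k) := by
      rw [pow_add, ← mul_assoc, ← hi, mul_assoc, ← hzi k h]
      group
    rw [← mul_smul, this, mul_smul, hx]
  let A : ℕ → V → V := fun k x => (T.e * T.z ^ k) • x - x
  have hA : ∀ k x, A k x = (T.e * T.z ^ k) • x - x := fun k x => rfl
  have hAadd : ∀ k x y, A k (x + y) = A k x + A k y := fun k x y => by simp only [hA, smul_add]; abel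
  have hA0 : ∀ k, A k 0 = 0 := fun k => by simp [hA]
  have hAcomm : ∀ k l x, A k (A l x) = A l (A k x) := fun k l x => by
    simp only [hA, smul_sub, T.commute_pow k l x]; abel
  have hu' : (T.e * T.z ^ 0) • u = u := by rw [pow_zero, mul_one, hu]
  -- the two annihilators, moved by `h`
  have hB : A i (A (i + j) u) + A i (A (i + j) w) = 0 := by
    rw [← hAadd, ← hAadd, ← hh, smul_add, hAadd, hAadd, hAcomm i (i + j) (h • u)]
    have h1 := hmv 0 u hu'
    rw [add_zero] at h1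
    rw [show A i (h • u) = 0 by rw [hA, h1, sub_self], hA0,
      show A (i + j) (h • w) = 0 by rw [hA, hmv j w hw, sub_self], hA0, add_zero]
  -- on `u`
  have hU : ∀ k, T.z ^ k ≠ 1 → ∀ x, T.e • x = x → A k x = 0 → x = 0 := by
    intro k hk x hx h0
    rw [hA, ← hzi k T.e |>.symm, mul_smul, hx, sub_eq_zero] at h0
    exact T.eq_zero_of_fixed H hk h0
  have hUe : ∀ k x, T.e • x = x → T.e • A k x = A k x := by
    intro k x hx
    rw [hA, smul_sub, hx, hzi k T.e, mul_smul, hx, ← mul_smul, hzi k T.e, mul_smul, hx]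
  have h1 : T.z ^ i = 1 ∨ T.z ^ (i + j) = 1 := by
    by_contra hne
    push Not at hne
    have h2 : A j (A i (A (i + j) u)) = 0 := by
      have := congrArg (A j) hB
      rw [hAadd, hA0, hAcomm j i (A (i + j) w), hAcomm j (i + j) w,
        show A j w = 0 by rw [hA, hw, sub_self], hA0, hA0, add_zero] at this
      exact this
    exact hu0 (hU _ hne.2 u hu (hU _ hne.1 _ (hUe _ _ hu) (hU j hj _ (hUe _ _ (hUe _ _ hu)) h2)))
  -- on `w`
  have hW : ∀ k, T.z ^ k ≠ T.z ^ j → ∀ x, (T.e * T.z ^ j) • x = x → A k x = 0 → x = 0 := by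
    intro k hk x hx h0
    rw [hA, sub_eq_zero] at h0
    have hd : (T.z ^ k)⁻¹ * T.z ^ j ≠ 1 := fun h => hk (inv_mul_eq_one.1 h)
    refine H.eq_zero_of_central (fun g => ?_) hd ?_
    · exact (((show Commute g T.z from T.central g).pow_right k).inv_right.mul_right
        ((show Commute g T.z from T.central g).pow_right j)).eq
    · calc ((T.z ^ k)⁻¹ * T.z ^ j) • x = ((T.e * T.z ^ k)⁻¹ * (T.e * T.z ^ j)) • x := by
            congr 1; group
        _ = (T.e * T.z ^ k)⁻¹ • (T.e * T.z ^ j) • x := mul_smul _ _ _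
        _ = x := by rw [hx, inv_smul_eq_iff, h0]
  have hWe : ∀ k x, (T.e * T.z ^ j) • x = x → (T.e * T.z ^ j) • A k x = A k x := by
    intro k x hx
    rw [hA, smul_sub, hx, T.commute_pow j k x, hx]
  have h2 : T.z ^ i = 1 ∨ T.z ^ i = T.z ^ j := by
    by_contra hne
    push Not at hne
    have h3 : A 0 (A i (A (i + j) w)) = 0 := by
      have := congrArg (A 0) hB
      rw [hAadd, hA0, hAcomm 0 i (A (i + j) u), hAcomm 0 (i + j) u,
        show A 0 u = 0 by rw [hA, hu', sub_self], hA0, hA0, zero_add] at this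
      exact this
    have hij : T.z ^ (i + j) ≠ T.z ^ j := fun h => hne.1 (by rwa [pow_add, mul_eq_right] at h)
    exact hw0 (hW _ hij w hw (hW _ hne.2 _ (hWe _ _ hw) (hW 0 (by rw [pow_zero]; exact hj.symm) _
      (hWe _ _ (hWe _ _ hw)) h3)))
  have hboth : ∀ x : V, T.e • x = x → (T.e * T.z ^ j) • x = x → x = 0 := fun x hx hx' =>
    T.eq_zero_of_fixed H hj (by rwa [← hzi j T.e |>.symm, mul_smul, hx] at hx')
  have hh' := hh
  rw [smul_add] at hh'
  by_cases hi1 : T.z ^ i = 1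
  · have hu1 : T.e • (h • u) = h • u := by
      have := hmv 0 u hu'
      rwa [add_zero, hi1, mul_one] at this
    have hw1 : (T.e * T.z ^ j) • (h • w) = h • w := by
      have := hmv j w hw
      rwa [pow_add, hi1, one_mul] at this
    have hd : h • u - u = w - h • w := by rw [sub_eq_sub_iff_add_eq_add, hh', add_comm w u]
    have hz := hboth (h • u - u) (by rw [smul_sub, hu1, hu]) (by rw [hd, smul_sub, hw, hw1])
    exact Or.inl ⟨sub_eq_zero.1 hz, (sub_eq_zero.1 (hd ▸ hz)).symm⟩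
  · have e2 := h2.resolve_left hi1
    have e1 := h1.resolve_left hi1
    have hp2 : p = 2 := by
      haveI : Fact p.Prime := ⟨H.p_prime⟩
      have hj2 : T.z ^ (2 * j) = 1 := by rw [two_mul, pow_add]; nth_rw 1 [← e2]; rw [← pow_add, e1]
      have hoz := orderOf_eq_prime T.z_pow T.z_ne
      rcases H.p_prime.dvd_mul.1 (hoz ▸ orderOf_dvd_of_pow_eq_one hj2) with h3 | h3
      · exact (Nat.prime_dvd_prime_iff_eq H.p_prime Nat.prime_two).1 h3
      · exact absurd (orderOf_dvd_iff_pow_eq_one.1 (hoz.symm ▸ h3)) hj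
    have hu1 : (T.e * T.z ^ j) • (h • u) = h • u := by
      have := hmv 0 u hu'
      rwa [add_zero, e2] at this
    have hw1 : T.e • (h • w) = h • w := by
      have := hmv j w hw
      rwa [e1, mul_one] at this
    have hd : h • u - w = u - h • w := sub_eq_sub_iff_add_eq_add.2 (by rw [hh'])
    have hz := hboth (h • u - w) (by rw [hd, smul_sub, hu, hw1]) (by rw [smul_sub, hu1, hw])
    exact Or.inr ⟨hp2, sub_eq_zero.1 hz, (sub_eq_zero.1 (hd ▸ hz)).symm⟩

omit H in
omit [Finite G] [Finite V] in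
theorem fixed_shift (k : ℕ) {x : V} (hx : T.e • x = x) : (T.e * T.z ^ k) • (T.g₀ ^ k • x) = T.g₀ ^ k • x := by
  rw [← T.shift_pow k, ← mul_smul, inv_mul_cancel_right, mul_smul, hx]

omit H in
omit [Finite G] [Finite V] in
theorem fixed_unshift (k : ℕ) {x : V} (hx : (T.e * T.z ^ k) • x = x) : T.e • ((T.g₀ ^ k)⁻¹ • x) = (T.g₀ ^ k)⁻¹ • x := by
  rw [← T.shift_pow k, mul_smul, mul_smul] at hx
  conv_rhs => rw [← hx, inv_smul_smul]

/-- Some non-zero element is not fixed by the stabilizer of `u` in its own eigenspace's translates. -/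
theorem eq_bot_of_fixes_all {h : G} (hfix : ∀ k, ∀ x : V, (T.e * T.z ^ k) • x = x → h • x = x) : h = 1 :=
  H.faithful h fun v => H.eq_zero_of_eigen T.central T.z_ne T.z_pow T.e_pow
    { carrier := {y | h • y = y}
      add_mem' := fun {a b} ha hb => by
        show h • (a + b) = a + b
        rw [smul_add, ha, hb]
      zero_mem' := smul_zero h
      neg_mem' := fun {a} ha => by
        show h • -a = -a
        rw [smul_neg, ha] } hfix v

/-- Only `p = 2` survives. -/
theorem p_eq_two (hu : T.e • u = u) (hu0 : u ≠ 0) : p = 2 := by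
  by_contra hp
  have key : ∀ (k : ℕ) (a b : V), T.z ^ k ≠ 1 → T.e • a = a → a ≠ 0 → (T.e * T.z ^ k) • b = b → b ≠ 0 →
      stabilizer G a = stabilizer G b := fun k a b hk ha ha0 hb hb0 =>
    H.stab_eq ha0 hb0 (fun h => hb0 (T.eq_zero_of_fixed H hk (by
      have hb' : T.e • b = b := by
        rw [eq_neg_of_add_eq_zero_right h, smul_neg, ha]
      rwa [((show Commute T.e T.z from T.central T.e).pow_right k).eq, mul_smul, hb'] at hb)))
      fun h hh => (T.cross H ha ha0 hb hb0 hk hh).resolve_right fun h' => hp h'.1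
  refine H.nontriv u hu0 ((Subgroup.eq_bot_iff_forall _).2 fun h hh => T.eq_bot_of_fixes_all H fun k x hx => ?_)
  by_cases hx0 : x = 0
  · rw [hx0, smul_zero]
  by_cases hk : T.z ^ k = 1
  · rw [hk, mul_one] at hx
    have hg : (T.e * T.z ^ 1) • (T.g₀ ^ 1 • x) = T.g₀ ^ 1 • x := T.fixed_shift 1 hx
    have hg0 : T.g₀ ^ 1 • x ≠ 0 := (smul_ne_zero_iff_ne _).2 hx0
    have h1 : T.z ^ 1 ≠ 1 := by rw [pow_one]; exact T.z_ne
    exact mem_stabilizer_iff.1 ((key 1 x _ h1 hx hx0 hg hg0).trans (key 1 u _ h1 hu hu0 hg hg0).symm ▸ hh)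
  · exact mem_stabilizer_iff.1 (key k u x hk hu hu0 hx hx0 ▸ hh)

/-- The centralizer of `e` is transitive on the non-zero elements fixed by `e z`. -/
theorem transitive (hq : q ≠ 2) (hp : p = 2) (hu : T.e • u = u) (hu0 : u ≠ 0) {w w' : V}
    (hw : (T.e * T.z) • w = w) (hw0 : w ≠ 0) (hw' : (T.e * T.z) • w' = w') (hw'0 : w' ≠ 0) :
    ∃ h : G, h * T.e * h⁻¹ = T.e ∧ h • w = w' := by
  classical
  let C : Subgroup G :=
    { carrier := {h | h * T.e * h⁻¹ = T.e}
      one_mem' := by simp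
      mul_mem' := fun {a b} ha hb => by
        show a * b * T.e * (a * b)⁻¹ = T.e
        calc a * b * T.e * (a * b)⁻¹ = a * (b * T.e * b⁻¹) * a⁻¹ := by group
          _ = T.e := by rw [hb]; exact ha
      inv_mem' := fun {a} ha => by
        show a⁻¹ * T.e * a⁻¹⁻¹ = T.e
        nth_rw 1 [← show a * T.e * a⁻¹ = T.e from ha]
        group }
  have hCz : ∀ g ∈ C, ∀ x : V, (T.e * T.z) • x = x → (T.e * T.z) • g • x = g • x := by
    intro g hg x hx
    have : T.e * T.z * g = g * (T.e * T.z) := by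
      rw [mul_assoc, ← T.central g, ← mul_assoc, ← mul_inv_eq_iff_eq_mul.1 hg]; group
    rw [← mul_smul, this, mul_smul, hx]
  let V₁ : AddSubgroup V :=
    { carrier := {x | (T.e * T.z) • x = x}
      add_mem' := fun {a b} ha hb => by
        show (T.e * T.z) • (a + b) = a + b
        rw [smul_add, ha, hb]
      zero_mem' := smul_zero _
      neg_mem' := fun {a} ha => by
        show (T.e * T.z) • -a = -a
        rw [smul_neg, ha] }
  have hz2 : T.z * T.z = 1 := by rw [← pow_two, ← hp]; exact T.z_pow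
  have hdisj : ∀ x : V, T.e • x = x → (T.e * T.z) • x = x → x = 0 := fun x hx hx' =>
    H.eq_zero_of_central T.central T.z_ne (by rwa [T.central T.e, mul_smul, hx] at hx')
  have hcase : ∀ g : G, g ∈ C ∨ g * T.e * g⁻¹ = T.e * T.z := by
    intro g
    obtain ⟨c, hc⟩ := T.conj g
    rcases Nat.even_or_odd c with ⟨d, rfl⟩ | ⟨d, rfl⟩
    · left
      show g * T.e * g⁻¹ = T.e
      rw [hc, ← two_mul, pow_mul, pow_two, hz2, one_pow, mul_one]
    · right
      rw [hc, pow_succ, pow_mul, pow_two, hz2, one_pow, one_mul]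
  -- stabilizers lie in `C`
  have hstabC : ∀ x : V, x ≠ 0 → (T.e • x = x ∨ (T.e * T.z) • x = x) → stabilizer G x ≤ C := by
    intro x hx0 hx g hg
    refine (hcase g).resolve_right fun hc => hx0 ?_
    have hgx : g • x = x := hg
    have hmv : ∀ a : G, a • x = x → (g * a * g⁻¹) • x = x := fun a ha => by
      rw [mul_smul, mul_smul, show g⁻¹ • x = x by rw [inv_smul_eq_iff, hgx], ha, hgx]
    rcases hx with hx | hx
    · exact hdisj x hx (hc ▸ hmv _ hx)
    · refine hdisj x ?_ hx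
      have h1 := hmv _ hx
      rwa [← mul_assoc g, mul_assoc _ T.z, ← T.central g⁻¹, ← mul_assoc, hc, mul_assoc T.e, hz2, mul_one] at h1
  let W₀ : AddSubgroup V :=
    { carrier := {x | (T.e * T.z) • x = x ∧ ∀ h ∈ stabilizer G u, h • x = x}
      add_mem' := fun {a b} ha hb => ⟨by rw [smul_add, ha.1, hb.1], fun h hh => by
        rw [smul_add, ha.2 h hh, hb.2 h hh]⟩
      zero_mem' := ⟨smul_zero _, fun h _ => smul_zero h⟩
      neg_mem' := fun {a} ha => ⟨by rw [smul_neg, ha.1], fun h hh => by rw [smul_neg, ha.2 h hh]⟩ }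
  have hW₀ : W₀ ≤ V₁ := fun x hx => hx.1
  have hswap : ∀ x : V, x ∈ V₁ → x ∉ W₀ → ∃ h : G, h • u = x ∧ h • x = u ∧ h * T.e * h⁻¹ = T.e * T.z := by
    intro x hx hxW
    by_contra hnone
    have hx0 : x ≠ 0 := fun h => hxW (h ▸ zero_mem W₀)
    refine hxW ⟨hx, fun g hg => ?_⟩
    have hsum : u + x ≠ 0 := fun h => hu0 (hdisj u hu (by
      rw [eq_neg_of_add_eq_zero_left h, smul_neg, show (T.e * T.z) • x = x from hx]))
    have := H.stab_eq hu0 hx0 hsum fun h hh =>
      (T.cross H hu hu0 (j := 1) (by rw [pow_one]; exact hx) hx0 (by rw [pow_one]; exact T.z_ne) hh).resolve_right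
        fun ⟨_, h1, h2⟩ => hnone ⟨h, h1, h2, (hcase h).resolve_left fun hC => hu0 (hdisj u hu (by
          rw [← h2]; exact hCz h hC x hx))⟩
    exact mem_stabilizer_iff.1 (this ▸ hg)
  have hproper : W₀ < V₁ := by
    refine lt_of_le_of_ne hW₀ fun heq => H.nontriv u hu0 ((Subgroup.eq_bot_iff_forall _).2 fun h hh =>
      T.eq_bot_of_fixes_all H fun k x hx => ?_)
    have hall : ∀ x : V, (T.e * T.z) • x = x → x ≠ 0 → stabilizer G u = stabilizer G x := fun x hx hx0 => by
      have hx' : x ∈ W₀ := heq ▸ hx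
      exact Subgroup.eq_of_le_of_card_ge (fun g hg => hx'.2 g hg) (H.card_eq x u hx0 hu0).le
    by_cases hx0 : x = 0
    · rw [hx0, smul_zero]
    rcases Nat.even_or_odd k with ⟨d, rfl⟩ | ⟨d, rfl⟩
    · rw [← two_mul, pow_mul, pow_two, hz2, one_pow, mul_one] at hx
      have hmv : ∀ y : V, T.e • y = y → (T.e * T.z) • (T.g₀ • y) = T.g₀ • y := fun y hy => by
        have := T.fixed_shift 1 hy
        rwa [pow_one, pow_one] at this
      have e1 := hall _ (hmv x hx) ((smul_ne_zero_iff_ne _).2 hx0)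
      have e2 := hall _ (hmv u hu) ((smul_ne_zero_iff_ne _).2 hu0)
      have h3 : T.g₀ * h * T.g₀⁻¹ ∈ stabilizer G (T.g₀ • u) := by
        rw [mem_stabilizer_iff, mul_smul, mul_smul, inv_smul_smul, mem_stabilizer_iff.1 hh]
      rw [← e2, e1, mem_stabilizer_iff, mul_smul, mul_smul, inv_smul_smul] at h3
      exact (smul_left_cancel_iff _).1 h3
    · rw [pow_succ, pow_mul, pow_two, hz2, one_pow, one_mul] at hx
      exact mem_stabilizer_iff.1 (hall x hx hx0 ▸ hh)
  obtain ⟨w₁, hw₁, hw₁W⟩ := SetLike.exists_of_lt hproper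
  obtain ⟨h₁, hh₁u, hh₁w, hh₁C⟩ := hswap w₁ hw₁ hw₁W
  have horb : ∀ x ∈ V₁, x ∉ W₀ → ∃ g ∈ C, g • w₁ = x := by
    intro x hx hxW
    obtain ⟨h, hhu, -, hhC⟩ := hswap x hx hxW
    refine ⟨h * h₁, ?_, by rw [mul_smul, hh₁w, hhu]⟩
    show h * h₁ * T.e * (h * h₁)⁻¹ = T.e
    calc h * h₁ * T.e * (h * h₁)⁻¹ = h * (h₁ * T.e * h₁⁻¹) * h⁻¹ := by group
      _ = (h * T.e * h⁻¹) * (h * T.z * h⁻¹) := by rw [hh₁C]; group
      _ = T.e := by rw [hhC, T.central h, mul_inv_cancel_right, mul_assoc, hz2, mul_one]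
  suffices hall : ∀ x : V, (T.e * T.z) • x = x → x ≠ 0 → ∃ g ∈ C, g • w₁ = x by
    obtain ⟨g, hg, hgw⟩ := hall w hw hw0
    obtain ⟨g', hg', hgw'⟩ := hall w' hw' hw'0
    exact ⟨g' * g⁻¹, C.mul_mem hg' (C.inv_mem hg), by rw [mul_smul, ← hgw, inv_smul_smul, hgw']⟩
  intro x hx hx0
  by_contra hno
  have hw₁0 : w₁ ≠ 0 := fun h => hw₁W (h ▸ zero_mem W₀)
  let O : V → Set V := fun y => MulAction.orbit C y
  have hOsub : ∀ y, (T.e * T.z) • y = y → y ≠ 0 → ∀ y' ∈ O y, (T.e * T.z) • y' = y' ∧ y' ≠ 0 := by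
    rintro y hy hy0 _ ⟨g, rfl⟩
    exact ⟨hCz g.1 g.2 y hy, (smul_ne_zero_iff_ne _).2 hy0⟩
  have hOcard : (O x).ncard = (O w₁).ncard := by
    have h1 : ∀ y : V, y ≠ 0 → (T.e * T.z) • y = y →
        Nat.card (stabilizer G y) * (O y).ncard = Nat.card C := by
      intro y hy0 hy
      have hs : stabilizer C y = (stabilizer G y).subgroupOf C := by ext g; rfl
      rw [← MulAction.index_stabilizer C y, ← Nat.card_congr
        (Subgroup.subgroupOfEquivOfLe (hstabC y hy0 (Or.inr hy))).toEquiv, ← hs, Subgroup.card_mul_index]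
    have e1 := h1 x hx0 hx
    rw [H.card_eq x w₁ hx0 hw₁0, ← h1 w₁ hw₁0 hw₁] at e1
    exact Nat.eq_of_mul_eq_mul_left Nat.card_pos e1
  have hbig : (V₁ : Set V).ncard ≤ (W₀ : Set V).ncard + (O w₁).ncard := by
    refine le_trans (Set.ncard_le_ncard (t := (W₀ : Set V) ∪ O w₁) fun y hy => ?_) (Set.ncard_union_le _ _)
    by_cases hyW : y ∈ W₀
    · exact Or.inl hyW
    · obtain ⟨g, hg, hgy⟩ := horb y hy hyW
      exact Or.inr ⟨⟨g, hg⟩, hgy⟩
  have hsmall : (O x).ncard < (W₀ : Set V).ncard := by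
    refine Set.ncard_lt_ncard (Set.ssubset_iff_exists.2 ⟨fun y hy => ?_, 0, zero_mem W₀, fun h => (hOsub x hx hx0 0 h).2 rfl⟩)
    by_contra hyW
    obtain ⟨g, hg, hgy⟩ := horb y (hOsub x hx hx0 y hy).1 hyW
    obtain ⟨g', hg'⟩ := hy
    exact hno ⟨g'.1⁻¹ * g, C.mul_mem (C.inv_mem g'.2) hg, by
      rw [mul_smul, hgy, inv_smul_eq_iff]; exact hg'.symm⟩
  have hle : Nat.card W₀ * 3 ≤ Nat.card V₁ := by
    have h1 := Subgroup.card_eq_card_quotient_mul_card_subgroup
      ((AddSubgroup.toSubgroup W₀).subgroupOf (AddSubgroup.toSubgroup V₁))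
    have h2 : 3 ≤ (AddSubgroup.toSubgroup W₀).relIndex (AddSubgroup.toSubgroup V₁) := by
      have hd : (AddSubgroup.toSubgroup W₀).relIndex (AddSubgroup.toSubgroup V₁) ≠ 1 := fun h1 =>
        hproper.not_ge fun y hy => (Subgroup.relIndex_eq_one.1 h1 hy : _)
      obtain ⟨r, hr, hrd⟩ := Nat.exists_prime_and_dvd hd
      haveI : Fact r.Prime := ⟨hr⟩
      have hrV : r ∣ Nat.card (AddSubgroup.toSubgroup V₁) := hrd.trans (Subgroup.index_dvd_card _)
      obtain ⟨a, ha⟩ := exists_prime_orderOf_dvd_card' r hrV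
      have : r = q := by
        refine (Nat.prime_dvd_prime_iff_eq hr H.q_prime).1 (ha ▸ orderOf_dvd_of_pow_eq_one ?_)
        exact Subtype.ext (H.exp (Multiplicative.toAdd (a : Multiplicative V)))
      subst this
      have := Nat.le_of_dvd (Nat.pos_of_ne_zero Subgroup.index_ne_zero_of_finite) hrd
      have := hr.two_le
      unfold Subgroup.relIndex
      omega
    have h3 : Nat.card ((AddSubgroup.toSubgroup W₀).subgroupOf (AddSubgroup.toSubgroup V₁)) = Nat.card W₀ :=
      Nat.card_congr (Subgroup.subgroupOfEquivOfLe (fun y hy => hW₀ hy)).toEquiv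
    rw [h3, ← Subgroup.index_eq_card] at h1
    calc Nat.card W₀ * 3 ≤ Nat.card W₀ * (AddSubgroup.toSubgroup W₀).relIndex (AddSubgroup.toSubgroup V₁) :=
          Nat.mul_le_mul_left _ h2
      _ = Nat.card V₁ := by rw [mul_comm]; exact h1.symm
  have e1 : (V₁ : Set V).ncard = Nat.card V₁ := rfl
  have e2 : (W₀ : Set V).ncard = Nat.card W₀ := rfl
  omega

end Pair

end Cfsg.Agent.HalfTrans
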